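import Cfsg.Agent.WeylGroup.Basic

/-! Coset-table certificate for the Coxeter group of type F4. -/

set_option autoImplicit false

namespace Cfsg.Agent.WeylGroup

def f4Rows : List (List ℤ) :=
  [
    [2, -1, 0, 0], [-1, 2, -2, 0], [0, -1, 2, -1], [0, 0, -1, 2]]

def f4Level0 : Level where
  size := 2
  orbit := [
    [1, 0, 0, 0], [-1, 1, 0, 0]]
  tbl := 0x1
  par := [
    (0, 0), (0, 0)]
  steps := [
    ]

def f4Level1 : Level where
  size := 3
  orbit := [
    [0, 1, 0, 0], [1, -1, 2, 0], [-1, 0, 2, 0]]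
  tbl := 0x20100000000000000020000000000000100
  par := [
    (0, 0), (0, 1), (1, 0)]
  steps := [
    (2, 1, 0)]

def f4Level2 : Level where
  size := 8
  orbit := [
    [0, 0, 1, 0], [0, 1, -1, 1], [1, -1, 1, 1], [-1, 0, 1, 1], [1, 0, -1, 2], [-1, 1, -1, 2],
    [0, -1, 1, 2], [0, 0, -1, 3]]
  tbl := 0x607070000000000070506000000000003060400000000000204050000000000050302000000000004010300000000000002010000000000010000
  par := [
    (0, 0), (0, 2), (1, 1), (2, 0), (2, 2), (3, 2), (5, 1), (6, 2)]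
  steps := [
    (1, 0, 2), (3, 1, 0), (4, 0, 2), (4, 1, 2), (6, 0, 1), (7, 0, 2), (7, 1, 2)]

def f4Level3 : Level where
  size := 24
  orbit := [
    [0, 0, 0, 1], [0, 0, 1, -1], [0, 1, -1, 0], [1, -1, 1, 0], [-1, 0, 1, 0], [1, 0, -1, 1],
    [-1, 1, -1, 1], [1, 0, 0, -1], [0, -1, 1, 1], [-1, 1, 0, -1], [0, 0, -1, 2], [0, -1, 2, -1],
    [0, 0, 1, -2], [0, 1, -2, 1], [0, 1, -1, -1], [1, -1, 0, 1], [1, -1, 1, -1], [-1, 0, 0, 1],
    [-1, 0, 1, -1], [1, 0, -1, 0], [-1, 1, -1, 0], [0, -1, 1, 0], [0, 0, -1, 1], [0, 0, 0, -1]]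
  tbl := 0x1617171700000000171516160000000015161415000000001412151300000000131013140000000011141210000000001211110f000000000f130e1200000000100f0d11000000000d0c100e000000000e0b0f0d000000000a0e0c0c00000000080d090b000000000c080a0a0000000006090b07000000000b0a060800000000050707090000000009040805000000000703050600000000040604030000000003050204000000000201030200000000000201010000000001000000
  par := [
    (0, 0), (0, 3), (1, 2), (2, 1), (3, 0), (3, 2), (4, 2), (5, 3), (6, 1), (6, 3), (8, 2), (8, 3),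
    (10, 3), (11, 2), (12, 2), (13, 1), (14, 1), (15, 0), (16, 0), (16, 2), (18, 2), (20, 1),
    (21, 2), (22, 3)]
  steps := [
    (1, 0, 3), (1, 1, 3), (2, 0, 2), (2, 3, 2), (3, 3, 1), (4, 1, 0), (4, 3, 0), (5, 0, 2),
    (5, 1, 2), (7, 0, 3), (7, 1, 3), (7, 2, 3), (8, 0, 1), (9, 1, 3), (9, 2, 0), (10, 0, 2),
    (10, 1, 2), (11, 0, 1), (12, 0, 3), (12, 1, 3), (13, 0, 2), (13, 3, 2), (14, 0, 2), (15, 2, 1),
    (15, 3, 1), (17, 1, 0), (17, 2, 0), (17, 3, 0), (18, 1, 0), (19, 0, 2), (19, 1, 2), (19, 3, 2),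
    (20, 3, 0), (21, 0, 1), (21, 3, 1), (22, 0, 2), (22, 1, 2), (23, 0, 3), (23, 1, 3), (23, 2, 3)]

def f4Cert : List Level :=
  [f4Level0, f4Level1, f4Level2, f4Level3]

theorem f4_checkRep : checkRep CoxeterMatrix.F₄ f4Rows = true := by decide +kernel

theorem f4_checkAll : checkAll CoxeterMatrix.F₄ f4Rows f4Cert = true := by decide +kernel

theorem card_f4 : Nat.card CoxeterMatrix.F₄.Group = 1152 := by
  rw [card_group f4_checkRep f4_checkAll]; rfl

end Cfsg.Agent.WeylGroup
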