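import Cfsg.Agent.WeylGroup.Basic

/-! Coset-table certificate for the Coxeter group of type G2. -/

set_option autoImplicit false

namespace Cfsg.Agent.WeylGroup

def g2Rows : List (List ℤ) :=
  [
    [2, -3], [-1, 2]]

def g2Level0 : Level where
  size := 2
  orbit := [
    [1, 0], [-1, 3]]
  tbl := 0x1
  par := [
    (0, 0), (0, 0)]
  steps := [
    ]

def g2Level1 : Level where
  size := 6
  orbit := [
    [0, 1], [1, -1], [-1, 2], [1, -2], [-1, 1], [0, -1]]
  tbl := 0x40500000000000005030000000000000204000000000000030100000000000000020000000000000100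
  par := [
    (0, 0), (0, 1), (1, 0), (2, 1), (3, 0), (4, 1)]
  steps := [
    (5, 0, 1)]

def g2Cert : List Level :=
  [g2Level0, g2Level1]

theorem g2_checkRep : checkRep CoxeterMatrix.G₂ g2Rows = true := by decide +kernel

theorem g2_checkAll : checkAll CoxeterMatrix.G₂ g2Rows g2Cert = true := by decide +kernel

theorem card_g2 : Nat.card CoxeterMatrix.G₂.Group = 12 := by
  rw [card_group g2_checkRep g2_checkAll]; rfl

end Cfsg.Agent.WeylGroup
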