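import Cfsg.Agent.WeylGroup.Basic

/-! Coset-table certificate for the Coxeter group of type E6. -/

set_option autoImplicit false

namespace Cfsg.Agent.WeylGroup

def e6Rows : List (List ℤ) :=
  [
    [2, 0, -1, 0, 0, 0], [0, 2, 0, -1, 0, 0], [-1, 0, 2, -1, 0, 0], [0, -1, -1, 2, -1, 0],
    [0, 0, 0, -1, 2, -1], [0, 0, 0, 0, -1, 2]]

def e6Level0 : Level where
  size := 2
  orbit := [
    [1, 0, 0, 0, 0, 0], [-1, 0, 1, 0, 0, 0]]
  tbl := 0x1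
  par := [
    (0, 0), (0, 0)]
  steps := [
    ]

def e6Level1 : Level where
  size := 2
  orbit := [
    [0, 1, 0, 0, 0, 0], [0, -1, 0, 1, 0, 0]]
  tbl := 0x10000000000000100
  par := [
    (0, 0), (0, 1)]
  steps := [
    (1, 0, 1)]

def e6Level2 : Level where
  size := 3
  orbit := [
    [0, 0, 1, 0, 0, 0], [1, 0, -1, 1, 0, 0], [-1, 0, 0, 1, 0, 0]]
  tbl := 0x2020100000000000001020000000000010000
  par := [
    (0, 0), (0, 2), (1, 0)]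
  steps := [
    (1, 1, 2), (2, 1, 0), (2, 2, 0)]

def e6Level3 : Level where
  size := 10
  orbit := [
    [0, 0, 0, 1, 0, 0], [0, 1, 1, -1, 1, 0], [0, -1, 1, 0, 1, 0], [1, 1, -1, 0, 1, 0],
    [1, -1, -1, 1, 1, 0], [-1, 1, 0, 0, 1, 0], [-1, -1, 0, 1, 1, 0], [1, 0, 0, -1, 2, 0],
    [-1, 0, 1, -1, 2, 0], [0, 0, -1, 0, 2, 0]]
  tbl := 0x9080909000000000609080700000000040707080000000008060504000000000505060300000000070203060000000003010405000000000204010200000000000302010000000001000000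
  par := [
    (0, 0), (0, 3), (1, 1), (1, 2), (2, 2), (3, 0), (4, 0), (4, 3), (6, 3), (8, 2)]
  steps := [
    (1, 0, 3), (2, 0, 1), (2, 3, 1), (3, 1, 2), (3, 3, 2), (5, 1, 0), (5, 2, 0), (5, 3, 0),
    (6, 2, 0), (7, 0, 3), (7, 1, 3), (7, 2, 3), (8, 1, 0), (9, 0, 2), (9, 1, 2), (9, 3, 2)]

def e6Level4 : Level where
  size := 16
  orbit := [
    [0, 0, 0, 0, 1, 0], [0, 0, 0, 1, -1, 1], [0, 1, 1, -1, 0, 1], [0, -1, 1, 0, 0, 1],
    [1, 1, -1, 0, 0, 1], [1, -1, -1, 1, 0, 1], [-1, 1, 0, 0, 0, 1], [-1, -1, 0, 1, 0, 1],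
    [1, 0, 0, -1, 1, 1], [-1, 0, 1, -1, 1, 1], [1, 0, 0, 0, -1, 2], [0, 0, -1, 0, 1, 1],
    [-1, 0, 1, 0, -1, 2], [0, 0, -1, 1, -1, 2], [0, 1, 0, -1, 0, 2], [0, -1, 0, 0, 0, 2]]
  tbl := 0xf0f0f0e0f0000000e0d0e0f0e0000000b0e0c0d0d000000090c0d0c0a0000000d0b090b0b000000080a0a0a0c0000000c070b09080000000a0508080900000007090706050000000606060704000000050803040700000004040205060000000303050203000000020104030200000000020101010000000100000000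
  par := [
    (0, 0), (0, 4), (1, 3), (2, 1), (2, 2), (3, 2), (4, 0), (5, 0), (5, 3), (7, 3), (8, 4), (9, 2),
    (9, 4), (11, 4), (13, 3), (14, 1)]
  steps := [
    (1, 0, 4), (1, 1, 4), (1, 2, 4), (2, 0, 3), (2, 4, 3), (3, 0, 1), (3, 3, 1), (3, 4, 1),
    (4, 1, 2), (4, 3, 2), (4, 4, 2), (5, 4, 1), (6, 1, 0), (6, 2, 0), (6, 3, 0), (6, 4, 0),
    (7, 2, 0), (7, 4, 0), (8, 0, 3), (8, 1, 3), (8, 2, 3), (9, 1, 0), (10, 0, 4), (10, 1, 4),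
    (10, 2, 4), (10, 3, 4), (11, 0, 2), (11, 1, 2), (11, 3, 2), (12, 1, 0), (12, 2, 4), (12, 3, 0),
    (13, 0, 2), (13, 1, 2), (14, 0, 3), (14, 2, 3), (14, 4, 3), (15, 0, 1), (15, 2, 1), (15, 3, 1),
    (15, 4, 1)]

def e6Level5 : Level where
  size := 27
  orbit := [
    [0, 0, 0, 0, 0, 1], [0, 0, 0, 0, 1, -1], [0, 0, 0, 1, -1, 0], [0, 1, 1, -1, 0, 0],
    [0, -1, 1, 0, 0, 0], [1, 1, -1, 0, 0, 0], [1, -1, -1, 1, 0, 0], [-1, 1, 0, 0, 0, 0],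
    [-1, -1, 0, 1, 0, 0], [1, 0, 0, -1, 1, 0], [-1, 0, 1, -1, 1, 0], [1, 0, 0, 0, -1, 1],
    [0, 0, -1, 0, 1, 0], [-1, 0, 1, 0, -1, 1], [1, 0, 0, 0, 0, -1], [0, 0, -1, 1, -1, 1],
    [-1, 0, 1, 0, 0, -1], [0, 1, 0, -1, 0, 1], [0, 0, -1, 1, 0, -1], [0, -1, 0, 0, 0, 1],
    [0, 1, 0, -1, 1, -1], [0, -1, 0, 0, 1, -1], [0, 1, 0, 0, -1, 0], [0, -1, 0, 1, -1, 0],
    [0, 0, 1, -1, 0, 0], [1, 0, -1, 0, 0, 0], [-1, 0, 0, 0, 0, 0]]
  tbl := 0x1a1a1a1a1a19000019191918191a00001818171918180000171518171617000016141616171600001317151514150000111612141514000015131313111300000f1214101212000014110f11131100000d101012100e0000120c110d0f0f00000b0e0e0e0e100000100a0d0f0d0b00000c0f0c0a0c0c00000e090b0b0b0d00000a0d080c0a090000090b0609090a000008080a08070600000707070708050000060609040508000005050503060700000404040603040000030302050403000002010302020200000002010101010000010000000000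
  par := [
    (0, 0), (0, 5), (1, 4), (2, 3), (3, 1), (3, 2), (4, 2), (5, 0), (6, 0), (6, 3), (8, 3), (9, 4),
    (10, 2), (10, 4), (11, 5), (12, 4), (13, 5), (15, 3), (15, 5), (17, 1), (17, 5), (19, 5),
    (20, 4), (21, 4), (23, 3), (24, 2), (25, 0)]
  steps := [
    (1, 0, 5), (1, 1, 5), (1, 2, 5), (1, 3, 5), (2, 0, 4), (2, 1, 4), (2, 2, 4), (2, 5, 4),
    (3, 0, 3), (3, 4, 3), (3, 5, 3), (4, 0, 1), (4, 3, 1), (4, 4, 1), (4, 5, 1), (5, 1, 2),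
    (5, 3, 2), (5, 4, 2), (5, 5, 2), (6, 4, 1), (6, 5, 1), (7, 1, 0), (7, 2, 0), (7, 3, 0),
    (7, 4, 0), (7, 5, 0), (8, 2, 0), (8, 4, 0), (8, 5, 0), (9, 0, 3), (9, 1, 3), (9, 2, 3),
    (9, 5, 3), (10, 1, 0), (10, 5, 0), (11, 0, 4), (11, 1, 4), (11, 2, 4), (11, 3, 4), (12, 0, 2),
    (12, 1, 2), (12, 3, 2), (12, 5, 2), (13, 1, 0), (13, 2, 4), (13, 3, 0), (14, 0, 5), (14, 1, 5),
    (14, 2, 5), (14, 3, 5), (14, 4, 5), (15, 0, 2), (15, 1, 2), (16, 1, 0), (16, 2, 5), (16, 3, 0),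
    (16, 4, 0), (17, 0, 3), (17, 2, 3), (17, 4, 3), (18, 0, 2), (18, 1, 2), (18, 3, 5), (18, 4, 2),
    (19, 0, 1), (19, 2, 1), (19, 3, 1), (19, 4, 1), (20, 0, 3), (20, 1, 5), (20, 2, 3), (21, 0, 1),
    (21, 2, 1), (21, 3, 1), (22, 0, 4), (22, 1, 4), (22, 2, 4), (22, 3, 4), (22, 5, 4), (23, 0, 1),
    (23, 2, 1), (23, 5, 1), (24, 0, 3), (24, 1, 3), (24, 4, 3), (24, 5, 3), (25, 1, 2), (25, 3, 2),
    (25, 4, 2), (25, 5, 2), (26, 1, 0), (26, 2, 0), (26, 3, 0), (26, 4, 0), (26, 5, 0)]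

def e6Cert : List Level :=
  [e6Level0, e6Level1, e6Level2, e6Level3, e6Level4, e6Level5]

theorem e6_checkRep : checkRep CoxeterMatrix.E₆ e6Rows = true := by decide +kernel

theorem e6_checkAll : checkAll CoxeterMatrix.E₆ e6Rows e6Cert = true := by decide +kernel

theorem card_e6 : Nat.card CoxeterMatrix.E₆.Group = 51840 := by
  rw [card_group e6_checkRep e6_checkAll]; rfl

end Cfsg.Agent.WeylGroup
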