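import Cfsg.Agent.WeylGroup.Basic

/-! Coset-table certificate for the Coxeter group of type E7. -/

set_option autoImplicit false

namespace Cfsg.Agent.WeylGroup

def e7Rows : List (List ℤ) :=
  [
    [2, 0, -1, 0, 0, 0, 0], [0, 2, 0, -1, 0, 0, 0], [-1, 0, 2, -1, 0, 0, 0],
    [0, -1, -1, 2, -1, 0, 0], [0, 0, 0, -1, 2, -1, 0], [0, 0, 0, 0, -1, 2, -1],
    [0, 0, 0, 0, 0, -1, 2]]

def e7Level0 : Level where
  size := 2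
  orbit := [
    [1, 0, 0, 0, 0, 0, 0], [-1, 0, 1, 0, 0, 0, 0]]
  tbl := 0x1
  par := [
    (0, 0), (0, 0)]
  steps := [
    ]

def e7Level1 : Level where
  size := 2
  orbit := [
    [0, 1, 0, 0, 0, 0, 0], [0, -1, 0, 1, 0, 0, 0]]
  tbl := 0x10000000000000100
  par := [
    (0, 0), (0, 1)]
  steps := [
    (1, 0, 1)]

def e7Level2 : Level where
  size := 3
  orbit := [
    [0, 0, 1, 0, 0, 0, 0], [1, 0, -1, 1, 0, 0, 0], [-1, 0, 0, 1, 0, 0, 0]]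
  tbl := 0x2020100000000000001020000000000010000
  par := [
    (0, 0), (0, 2), (1, 0)]
  steps := [
    (1, 1, 2), (2, 1, 0), (2, 2, 0)]

def e7Level3 : Level where
  size := 10
  orbit := [
    [0, 0, 0, 1, 0, 0, 0], [0, 1, 1, -1, 1, 0, 0], [0, -1, 1, 0, 1, 0, 0], [1, 1, -1, 0, 1, 0, 0],
    [1, -1, -1, 1, 1, 0, 0], [-1, 1, 0, 0, 1, 0, 0], [-1, -1, 0, 1, 1, 0, 0],
    [1, 0, 0, -1, 2, 0, 0], [-1, 0, 1, -1, 2, 0, 0], [0, 0, -1, 0, 2, 0, 0]]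
  tbl := 0x9080909000000000609080700000000040707080000000008060504000000000505060300000000070203060000000003010405000000000204010200000000000302010000000001000000
  par := [
    (0, 0), (0, 3), (1, 1), (1, 2), (2, 2), (3, 0), (4, 0), (4, 3), (6, 3), (8, 2)]
  steps := [
    (1, 0, 3), (2, 0, 1), (2, 3, 1), (3, 1, 2), (3, 3, 2), (5, 1, 0), (5, 2, 0), (5, 3, 0),
    (6, 2, 0), (7, 0, 3), (7, 1, 3), (7, 2, 3), (8, 1, 0), (9, 0, 2), (9, 1, 2), (9, 3, 2)]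

def e7Level4 : Level where
  size := 16
  orbit := [
    [0, 0, 0, 0, 1, 0, 0], [0, 0, 0, 1, -1, 1, 0], [0, 1, 1, -1, 0, 1, 0], [0, -1, 1, 0, 0, 1, 0],
    [1, 1, -1, 0, 0, 1, 0], [1, -1, -1, 1, 0, 1, 0], [-1, 1, 0, 0, 0, 1, 0],
    [-1, -1, 0, 1, 0, 1, 0], [1, 0, 0, -1, 1, 1, 0], [-1, 0, 1, -1, 1, 1, 0],
    [1, 0, 0, 0, -1, 2, 0], [0, 0, -1, 0, 1, 1, 0], [-1, 0, 1, 0, -1, 2, 0],
    [0, 0, -1, 1, -1, 2, 0], [0, 1, 0, -1, 0, 2, 0], [0, -1, 0, 0, 0, 2, 0]]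
  tbl := 0xf0f0f0e0f0000000e0d0e0f0e0000000b0e0c0d0d000000090c0d0c0a0000000d0b090b0b000000080a0a0a0c0000000c070b09080000000a0508080900000007090706050000000606060704000000050803040700000004040205060000000303050203000000020104030200000000020101010000000100000000
  par := [
    (0, 0), (0, 4), (1, 3), (2, 1), (2, 2), (3, 2), (4, 0), (5, 0), (5, 3), (7, 3), (8, 4), (9, 2),
    (9, 4), (11, 4), (13, 3), (14, 1)]
  steps := [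
    (1, 0, 4), (1, 1, 4), (1, 2, 4), (2, 0, 3), (2, 4, 3), (3, 0, 1), (3, 3, 1), (3, 4, 1),
    (4, 1, 2), (4, 3, 2), (4, 4, 2), (5, 4, 1), (6, 1, 0), (6, 2, 0), (6, 3, 0), (6, 4, 0),
    (7, 2, 0), (7, 4, 0), (8, 0, 3), (8, 1, 3), (8, 2, 3), (9, 1, 0), (10, 0, 4), (10, 1, 4),
    (10, 2, 4), (10, 3, 4), (11, 0, 2), (11, 1, 2), (11, 3, 2), (12, 1, 0), (12, 2, 4), (12, 3, 0),
    (13, 0, 2), (13, 1, 2), (14, 0, 3), (14, 2, 3), (14, 4, 3), (15, 0, 1), (15, 2, 1), (15, 3, 1),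
    (15, 4, 1)]

def e7Level5 : Level where
  size := 27
  orbit := [
    [0, 0, 0, 0, 0, 1, 0], [0, 0, 0, 0, 1, -1, 1], [0, 0, 0, 1, -1, 0, 1], [0, 1, 1, -1, 0, 0, 1],
    [0, -1, 1, 0, 0, 0, 1], [1, 1, -1, 0, 0, 0, 1], [1, -1, -1, 1, 0, 0, 1], [-1, 1, 0, 0, 0, 0, 1],
    [-1, -1, 0, 1, 0, 0, 1], [1, 0, 0, -1, 1, 0, 1], [-1, 0, 1, -1, 1, 0, 1],
    [1, 0, 0, 0, -1, 1, 1], [0, 0, -1, 0, 1, 0, 1], [-1, 0, 1, 0, -1, 1, 1], [1, 0, 0, 0, 0, -1, 2],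
    [0, 0, -1, 1, -1, 1, 1], [-1, 0, 1, 0, 0, -1, 2], [0, 1, 0, -1, 0, 1, 1],
    [0, 0, -1, 1, 0, -1, 2], [0, -1, 0, 0, 0, 1, 1], [0, 1, 0, -1, 1, -1, 2],
    [0, -1, 0, 0, 1, -1, 2], [0, 1, 0, 0, -1, 0, 2], [0, -1, 0, 1, -1, 0, 2],
    [0, 0, 1, -1, 0, 0, 2], [1, 0, -1, 0, 0, 0, 2], [-1, 0, 0, 0, 0, 0, 2]]
  tbl := 0x1a1a1a1a1a19000019191918191a00001818171918180000171518171617000016141616171600001317151514150000111612141514000015131313111300000f1214101212000014110f11131100000d101012100e0000120c110d0f0f00000b0e0e0e0e100000100a0d0f0d0b00000c0f0c0a0c0c00000e090b0b0b0d00000a0d080c0a090000090b0609090a000008080a08070600000707070708050000060609040508000005050503060700000404040603040000030302050403000002010302020200000002010101010000010000000000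
  par := [
    (0, 0), (0, 5), (1, 4), (2, 3), (3, 1), (3, 2), (4, 2), (5, 0), (6, 0), (6, 3), (8, 3), (9, 4),
    (10, 2), (10, 4), (11, 5), (12, 4), (13, 5), (15, 3), (15, 5), (17, 1), (17, 5), (19, 5),
    (20, 4), (21, 4), (23, 3), (24, 2), (25, 0)]
  steps := [
    (1, 0, 5), (1, 1, 5), (1, 2, 5), (1, 3, 5), (2, 0, 4), (2, 1, 4), (2, 2, 4), (2, 5, 4),
    (3, 0, 3), (3, 4, 3), (3, 5, 3), (4, 0, 1), (4, 3, 1), (4, 4, 1), (4, 5, 1), (5, 1, 2),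
    (5, 3, 2), (5, 4, 2), (5, 5, 2), (6, 4, 1), (6, 5, 1), (7, 1, 0), (7, 2, 0), (7, 3, 0),
    (7, 4, 0), (7, 5, 0), (8, 2, 0), (8, 4, 0), (8, 5, 0), (9, 0, 3), (9, 1, 3), (9, 2, 3),
    (9, 5, 3), (10, 1, 0), (10, 5, 0), (11, 0, 4), (11, 1, 4), (11, 2, 4), (11, 3, 4), (12, 0, 2),
    (12, 1, 2), (12, 3, 2), (12, 5, 2), (13, 1, 0), (13, 2, 4), (13, 3, 0), (14, 0, 5), (14, 1, 5),
    (14, 2, 5), (14, 3, 5), (14, 4, 5), (15, 0, 2), (15, 1, 2), (16, 1, 0), (16, 2, 5), (16, 3, 0),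
    (16, 4, 0), (17, 0, 3), (17, 2, 3), (17, 4, 3), (18, 0, 2), (18, 1, 2), (18, 3, 5), (18, 4, 2),
    (19, 0, 1), (19, 2, 1), (19, 3, 1), (19, 4, 1), (20, 0, 3), (20, 1, 5), (20, 2, 3), (21, 0, 1),
    (21, 2, 1), (21, 3, 1), (22, 0, 4), (22, 1, 4), (22, 2, 4), (22, 3, 4), (22, 5, 4), (23, 0, 1),
    (23, 2, 1), (23, 5, 1), (24, 0, 3), (24, 1, 3), (24, 4, 3), (24, 5, 3), (25, 1, 2), (25, 3, 2),
    (25, 4, 2), (25, 5, 2), (26, 1, 0), (26, 2, 0), (26, 3, 0), (26, 4, 0), (26, 5, 0)]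

def e7Level6 : Level where
  size := 56
  orbit := [
    [0, 0, 0, 0, 0, 0, 1], [0, 0, 0, 0, 0, 1, -1], [0, 0, 0, 0, 1, -1, 0], [0, 0, 0, 1, -1, 0, 0],
    [0, 1, 1, -1, 0, 0, 0], [0, -1, 1, 0, 0, 0, 0], [1, 1, -1, 0, 0, 0, 0], [1, -1, -1, 1, 0, 0, 0],
    [-1, 1, 0, 0, 0, 0, 0], [-1, -1, 0, 1, 0, 0, 0], [1, 0, 0, -1, 1, 0, 0],
    [-1, 0, 1, -1, 1, 0, 0], [1, 0, 0, 0, -1, 1, 0], [0, 0, -1, 0, 1, 0, 0],
    [-1, 0, 1, 0, -1, 1, 0], [1, 0, 0, 0, 0, -1, 1], [0, 0, -1, 1, -1, 1, 0],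
    [-1, 0, 1, 0, 0, -1, 1], [1, 0, 0, 0, 0, 0, -1], [0, 1, 0, -1, 0, 1, 0],
    [0, 0, -1, 1, 0, -1, 1], [-1, 0, 1, 0, 0, 0, -1], [0, -1, 0, 0, 0, 1, 0],
    [0, 1, 0, -1, 1, -1, 1], [0, 0, -1, 1, 0, 0, -1], [0, -1, 0, 0, 1, -1, 1],
    [0, 1, 0, 0, -1, 0, 1], [0, 1, 0, -1, 1, 0, -1], [0, -1, 0, 1, -1, 0, 1],
    [0, -1, 0, 0, 1, 0, -1], [0, 1, 0, 0, -1, 1, -1], [0, 0, 1, -1, 0, 0, 1],
    [0, -1, 0, 1, -1, 1, -1], [0, 1, 0, 0, 0, -1, 0], [1, 0, -1, 0, 0, 0, 1],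
    [0, 0, 1, -1, 0, 1, -1], [0, -1, 0, 1, 0, -1, 0], [-1, 0, 0, 0, 0, 0, 1],
    [1, 0, -1, 0, 0, 1, -1], [0, 0, 1, -1, 1, -1, 0], [-1, 0, 0, 0, 0, 1, -1],
    [1, 0, -1, 0, 1, -1, 0], [0, 0, 1, 0, -1, 0, 0], [-1, 0, 0, 0, 1, -1, 0],
    [1, 0, -1, 1, -1, 0, 0], [-1, 0, 0, 1, -1, 0, 0], [1, 1, 0, -1, 0, 0, 0],
    [-1, 1, 1, -1, 0, 0, 0], [1, -1, 0, 0, 0, 0, 0], [-1, -1, 1, 0, 0, 0, 0],
    [0, 1, -1, 0, 0, 0, 0], [0, -1, -1, 1, 0, 0, 0], [0, 0, 0, -1, 1, 0, 0], [0, 0, 0, 0, -1, 1, 0],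
    [0, 0, 0, 0, 0, -1, 1], [0, 0, 0, 0, 0, 0, -1]]
  tbl := 0x36373737373737003735363636363600353634353535350034343533343434003333333431323300323232322f33320031313131332f300030303030302e31002f2f2f2d32312e002e2e2e2c2e302f002d2d2b2f2d2d2c002c2c292e2a2c2d002b282d2b2b2b29002a2a272a2c2a2a0029262c2927292b00252b28282828260027232a24292727002229262623262800282525252525220024202427242124001f27232026232300262222221f222500211e2121212421001c241d23201e2000231f1f1c221f1f001a211b1e1e201e00191d201d1d1b1d00201c191f1c1a1c00171b1e181b1d1b001e1a171a1a1c1a001d161c19191719001418181b151818001b131a141719170016191616161316001115151518151200181014171114140013171310131613000f12121212121500150e111114110f0010140d130e101000120c0f0f0f0f11000e110b0e100e0c000d0d100d0b0d0d000c0f0a0c0c0c0e000b0b0e090d0b0a000a0a0c070a0a0b000909090b0908070008080808080906000707070a0506090006060606040708000505050507040500040404030605040003030204030303000201030202020200000201010101010001000000000000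
  par := [
    (0, 0), (0, 6), (1, 5), (2, 4), (3, 3), (4, 1), (4, 2), (5, 2), (6, 0), (7, 0), (7, 3), (9, 3),
    (10, 4), (11, 2), (11, 4), (12, 5), (13, 4), (14, 5), (15, 6), (16, 3), (16, 5), (17, 6),
    (19, 1), (19, 5), (20, 6), (22, 5), (23, 4), (23, 6), (25, 4), (25, 6), (26, 6), (28, 3),
    (28, 6), (30, 5), (31, 2), (31, 6), (32, 5), (34, 0), (34, 6), (35, 5), (37, 6), (38, 5),
    (39, 4), (40, 5), (41, 4), (43, 4), (44, 3), (45, 3), (46, 1), (47, 1), (47, 2), (49, 2),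
    (51, 3), (52, 4), (53, 5), (54, 6)]
  steps := [
    (1, 0, 6), (1, 1, 6), (1, 2, 6), (1, 3, 6), (1, 4, 6), (2, 0, 5), (2, 1, 5), (2, 2, 5),
    (2, 3, 5), (2, 6, 5), (3, 0, 4), (3, 1, 4), (3, 2, 4), (3, 5, 4), (3, 6, 4), (4, 0, 3),
    (4, 4, 3), (4, 5, 3), (4, 6, 3), (5, 0, 1), (5, 3, 1), (5, 4, 1), (5, 5, 1), (5, 6, 1),
    (6, 1, 2), (6, 3, 2), (6, 4, 2), (6, 5, 2), (6, 6, 2), (7, 4, 1), (7, 5, 1), (7, 6, 1),
    (8, 1, 0), (8, 2, 0), (8, 3, 0), (8, 4, 0), (8, 5, 0), (8, 6, 0), (9, 2, 0), (9, 4, 0),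
    (9, 5, 0), (9, 6, 0), (10, 0, 3), (10, 1, 3), (10, 2, 3), (10, 5, 3), (10, 6, 3), (11, 1, 0),
    (11, 5, 0), (11, 6, 0), (12, 0, 4), (12, 1, 4), (12, 2, 4), (12, 3, 4), (12, 6, 4), (13, 0, 2),
    (13, 1, 2), (13, 3, 2), (13, 5, 2), (13, 6, 2), (14, 1, 0), (14, 2, 4), (14, 3, 0), (14, 6, 0),
    (15, 0, 5), (15, 1, 5), (15, 2, 5), (15, 3, 5), (15, 4, 5), (16, 0, 2), (16, 1, 2), (16, 6, 2),
    (17, 1, 0), (17, 2, 5), (17, 3, 0), (17, 4, 0), (18, 0, 6), (18, 1, 6), (18, 2, 6), (18, 3, 6),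
    (18, 4, 6), (18, 5, 6), (19, 0, 3), (19, 2, 3), (19, 4, 3), (19, 6, 3), (20, 0, 2), (20, 1, 2),
    (20, 3, 5), (20, 4, 2), (21, 1, 0), (21, 2, 6), (21, 3, 0), (21, 4, 0), (21, 5, 0), (22, 0, 1),
    (22, 2, 1), (22, 3, 1), (22, 4, 1), (22, 6, 1), (23, 0, 3), (23, 1, 5), (23, 2, 3), (24, 0, 2),
    (24, 1, 2), (24, 3, 6), (24, 4, 2), (24, 5, 2), (25, 0, 1), (25, 2, 1), (25, 3, 1), (26, 0, 4),
    (26, 1, 4), (26, 2, 4), (26, 3, 4), (26, 5, 4), (27, 0, 3), (27, 1, 6), (27, 2, 3), (27, 4, 6),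
    (27, 5, 3), (28, 0, 1), (28, 2, 1), (28, 5, 1), (29, 0, 1), (29, 2, 1), (29, 3, 1), (29, 4, 6),
    (29, 5, 1), (30, 0, 4), (30, 1, 4), (30, 2, 4), (30, 3, 4), (31, 0, 3), (31, 1, 3), (31, 4, 3),
    (31, 5, 3), (32, 0, 1), (32, 2, 1), (32, 3, 6), (33, 0, 5), (33, 1, 5), (33, 2, 5), (33, 3, 5),
    (33, 4, 5), (33, 6, 5), (34, 1, 2), (34, 3, 2), (34, 4, 2), (34, 5, 2), (35, 0, 3), (35, 1, 3),
    (35, 2, 6), (35, 4, 3), (36, 0, 1), (36, 2, 1), (36, 3, 5), (36, 4, 1), (36, 6, 1), (37, 1, 0),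
    (37, 2, 0), (37, 3, 0), (37, 4, 0), (37, 5, 0), (38, 0, 6), (38, 1, 2), (38, 3, 2), (38, 4, 2),
    (39, 0, 3), (39, 1, 3), (39, 2, 5), (39, 6, 3), (40, 1, 0), (40, 2, 0), (40, 3, 0), (40, 4, 0),
    (41, 0, 5), (41, 1, 2), (41, 3, 2), (41, 6, 2), (42, 0, 4), (42, 1, 4), (42, 2, 4), (42, 3, 4),
    (42, 5, 4), (42, 6, 4), (43, 1, 0), (43, 2, 0), (43, 3, 0), (43, 6, 0), (44, 0, 4), (44, 1, 2),
    (44, 5, 2), (44, 6, 2), (45, 1, 0), (45, 2, 0), (45, 5, 0), (45, 6, 0), (46, 0, 3), (46, 2, 3),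
    (46, 4, 3), (46, 5, 3), (46, 6, 3), (47, 4, 0), (47, 5, 0), (47, 6, 0), (48, 0, 1), (48, 2, 1),
    (48, 3, 1), (48, 4, 1), (48, 5, 1), (48, 6, 1), (49, 3, 0), (49, 4, 0), (49, 5, 0), (49, 6, 0),
    (50, 0, 2), (50, 1, 2), (50, 3, 2), (50, 4, 2), (50, 5, 2), (50, 6, 2), (51, 0, 1), (51, 4, 1),
    (51, 5, 1), (51, 6, 1), (52, 0, 3), (52, 1, 3), (52, 2, 3), (52, 5, 3), (52, 6, 3), (53, 0, 4),
    (53, 1, 4), (53, 2, 4), (53, 3, 4), (53, 6, 4), (54, 0, 5), (54, 1, 5), (54, 2, 5), (54, 3, 5),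
    (54, 4, 5), (55, 0, 6), (55, 1, 6), (55, 2, 6), (55, 3, 6), (55, 4, 6), (55, 5, 6)]

def e7Cert : List Level :=
  [e7Level0, e7Level1, e7Level2, e7Level3, e7Level4, e7Level5, e7Level6]

theorem e7_checkRep : checkRep CoxeterMatrix.E₇ e7Rows = true := by decide +kernel

theorem e7_checkAll : checkAll CoxeterMatrix.E₇ e7Rows e7Cert = true := by decide +kernel

theorem card_e7 : Nat.card CoxeterMatrix.E₇.Group = 2903040 := by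
  rw [card_group e7_checkRep e7_checkAll]; rfl

end Cfsg.Agent.WeylGroup
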