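import Mathlib

/-!
Coset-table certificates for finite Coxeter groups.

A certificate consists, for every `k < n`, of the orbit of a vector under the first `k+1` simple
reflections in a linear representation, a spanning tree of this orbit and a list of deductions
(in the style of coset enumeration) showing that the cosets of the parabolic subgroup of rank `k`
in the one of rank `k+1` are no more than the points of the orbit.
-/

set_option autoImplicit false

namespace Cfsg.Agent.WeylGroup

open Function

/-- the rows of integers used to define the representation -/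
def entry (A : List (List ℤ)) (i j : ℕ) : ℤ := (A.getD i []).getD j 0

/-- the `i`-th reflection on lists -/
def reflList (n : ℕ) (A : List (List ℤ)) (i : ℕ) (l : List ℤ) : List ℤ :=
  let a := l.getD i 0
  List.ofFn fun j : Fin n => l.getD j 0 - a * entry A i j

/-- list to function -/
def toV (n : ℕ) (l : List ℤ) : Fin n → ℤ := fun j => l.getD j 0

/-- the `i`-th reflection -/
def reflLin (n : ℕ) (A : List (List ℤ)) (i : Fin n) : Module.End ℤ (Fin n → ℤ) where
  toFun v := fun j => v j - v i * entry A i j
  map_add' v w := by ext j; simp only [Pi.add_apply]; ring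
  map_smul' c v := by ext j; simp only [Pi.smul_apply, RingHom.id_apply, smul_eq_mul]; ring

theorem toV_reflList (n : ℕ) (A : List (List ℤ)) (i : Fin n) (l : List ℤ) :
    toV n (reflList n A i l) = reflLin n A i (toV n l) := by
  ext j
  simp only [toV, reflList, reflLin, LinearMap.coe_mk, AddHom.coe_mk]
  rw [List.getD_eq_getElem _ _ (by simp)]
  simp

/-- a standard basis vector as a list -/
def unitList (n k : ℕ) : List ℤ := List.ofFn fun j : Fin n => if (j : ℕ) = k then 1 else 0

theorem toV_unitList (n : ℕ) (k : Fin n) : toV n (unitList n k) = Pi.single k 1 := by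
  ext j
  simp only [toV, unitList]
  rw [List.getD_eq_getElem _ _ (by simp)]
  simp [Pi.single_apply, Fin.val_inj]

/-- iterate of a composite of two reflections -/
def pairIter (n : ℕ) (A : List (List ℤ)) (i j : ℕ) : ℕ → List ℤ → List ℤ
  | 0, l => l
  | m + 1, l => reflList n A i (reflList n A j (pairIter n A i j m l))

theorem toV_pairIter (n : ℕ) (A : List (List ℤ)) (i j : Fin n) (m : ℕ) (l : List ℤ) :
    toV n (pairIter n A i j m l) = ((reflLin n A i * reflLin n A j) ^ m) (toV n l) := by
  induction m with
  | zero => simp [pairIter]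
  | succ m ih => simp [pairIter, toV_reflList, ih, pow_succ', Module.End.mul_apply]

variable {n : ℕ}

/-- the Coxeter numbers as a function on `ℕ` -/
def mNat (M : CoxeterMatrix (Fin n)) (i j : ℕ) : ℕ :=
  if hi : i < n then if hj : j < n then M ⟨i, hi⟩ ⟨j, hj⟩ else 1 else 1

/-- check that the reflections satisfy the Coxeter relations -/
def checkRep (M : CoxeterMatrix (Fin n)) (A : List (List ℤ)) : Bool :=
  (List.range n).all fun i => (List.range n).all fun j => (List.range n).all fun k =>
    pairIter n A i j (mNat M i j) (unitList n k) == unitList n k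

theorem isLiftable_of_checkRep (M : CoxeterMatrix (Fin n)) (A : List (List ℤ))
    (h : checkRep M A = true) : M.IsLiftable (reflLin n A) := by
  intro i j
  simp only [checkRep, List.all_eq_true, List.mem_range, beq_iff_eq] at h
  refine (Pi.basisFun ℤ (Fin n)).ext fun k => ?_
  have hk := congrArg (toV n) (h i i.2 j j.2 k k.2)
  rw [toV_pairIter, toV_unitList] at hk
  simpa [mNat] using hk

/-- the representation -/
def rho (M : CoxeterMatrix (Fin n)) (A : List (List ℤ)) (h : checkRep M A = true) :
    M.Group →* Module.End ℤ (Fin n → ℤ) :=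
  M.toCoxeterSystem.lift ⟨reflLin n A, isLiftable_of_checkRep M A h⟩

theorem rho_simple (M : CoxeterMatrix (Fin n)) (A : List (List ℤ)) (h : checkRep M A = true)
    (i : Fin n) : rho M A h (M.simple i) = reflLin n A i := by
  rw [← M.toCoxeterSystem_simple]
  exact CoxeterSystem.lift_apply_simple _ _ i

/-! ### Coset tables -/

/-- certificate for one step of the parabolic chain -/
structure Level where
  size : ℕ
  orbit : List (List ℤ)
  tbl : ℕ
  par : List (ℕ × ℕ)
  steps : List (ℕ × ℕ × ℕ)

/-- the action table (at most 256 points, at most 8 generators) -/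
def Level.act (L : Level) (x i : ℕ) : ℕ := (L.tbl >>> (8 * (8 * x + i))) &&& 255

/-- known edges as a bit set -/
def knownBit (S x i : ℕ) : Bool := S.testBit (8 * x + i)

/-- add an edge to the known ones -/
def addBit (S x i : ℕ) : ℕ := S ||| (1 <<< (8 * x + i))

/-- follow a list of letters along known edges -/
def Level.walk (L : Level) (S : ℕ) : ℕ → List ℕ → Option ℕ
  | x, [] => some x
  | x, a :: l => if knownBit S x a && decide (a < 8) then L.walk S (L.act x a) l else none

/-- the word used for a deduction -/
def dedWord (i j m : ℕ) : List ℕ := (List.replicate (m - 1) [j, i]).flatten ++ [j]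

/-- one deduction -/
def Level.step (L : Level) (k : ℕ) (mf : ℕ → ℕ → ℕ) (S : ℕ) (e : ℕ × ℕ × ℕ) : ℕ :=
  if decide (e.1 < L.size) && decide (e.2.1 ≤ k) && decide (e.2.2 ≤ k)
      && decide (1 ≤ mf e.2.1 e.2.2)
      && (L.walk S e.1 (dedWord e.2.1 e.2.2 (mf e.2.1 e.2.2)) == some (L.act e.1 e.2.1))
  then addBit (addBit S e.1 e.2.1) (L.act e.1 e.2.1) e.2.1 else S

/-- run the deductions -/
def Level.run (L : Level) (k : ℕ) (mf : ℕ → ℕ → ℕ) : ℕ → List (ℕ × ℕ × ℕ) → ℕ
  | S, [] => S
  | S, e :: es =>
    match L.step k mf S e with
    | 0 => L.run k mf 0 es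
    | S' + 1 => L.run k mf (S' + 1) es

/-- edges known from the subgroup and from the tree -/
def Level.init (L : Level) (k : ℕ) : ℕ :=
  let S := (List.range k).foldl (fun S i => addBit S 0 i) 0
  (List.range L.size).foldl (fun S x =>
    if x = 0 then S else
      let p := L.par.getD x (0, 0)
      addBit (addBit S p.1 p.2) x p.2) S

/-- the orbit entry -/
def Level.pt (L : Level) (x : ℕ) : List ℤ := L.orbit.getD x []

/-- all checks for one level -/
def Level.check (L : Level) (n : ℕ) (A : List (List ℤ)) (k : ℕ) (mf : ℕ → ℕ → ℕ) : Bool :=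
  decide (0 < L.size) && decide (k < 8) && decide (k < n)
  && ((List.range L.size).all fun x =>
        decide ((L.pt x).length = n)
        && decide ((L.orbit.idxOf (L.pt x)) = x)
        && ((List.range (k + 1)).all fun i =>
              decide (L.act x i < L.size) && decide (L.act (L.act x i) i = x)
              && (reflList n A i (L.pt x) == L.pt (L.act x i))))
  && ((List.range k).all fun i => decide (L.act 0 i = 0))
  && ((List.range L.size).all fun x => decide (x = 0) ||
        (let p := L.par.getD x (0, 0)
         decide (p.1 < x) && decide (p.2 ≤ k) && decide (L.act p.1 p.2 = x)))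
  && (let S := L.run k mf (L.init k) L.steps
      (List.range L.size).all fun x => (List.range (k + 1)).all fun i => knownBit S x i)

/-- all checks for the chain -/
def checkAll (M : CoxeterMatrix (Fin n)) (A : List (List ℤ)) (cert : List Level) : Bool :=
  decide (cert.length = n) && (List.range n).all fun k =>
    match cert[k]? with
    | none => false
    | some L => L.check n A k (mNat M)

section Cosets

variable (M : CoxeterMatrix (Fin n))

/-- simple reflections indexed by `ℕ` -/
def gen (i : ℕ) : M.Group := if h : i < n then M.simple ⟨i, h⟩ else 1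

theorem gen_mul_self (i : ℕ) : gen M i * gen M i = 1 := by
  rw [gen]
  split_ifs with h
  · rw [← M.toCoxeterSystem_simple]; exact M.toCoxeterSystem.simple_mul_simple_self _
  · simp

theorem gen_inv (i : ℕ) : (gen M i)⁻¹ = gen M i :=
  inv_eq_of_mul_eq_one_right (gen_mul_self M i)

theorem gen_mul_pow (i j : ℕ) (hi : i < n) (hj : j < n) :
    (gen M i * gen M j) ^ mNat M i j = 1 := by
  simp only [gen, mNat, hi, hj, dif_pos]
  rw [← M.toCoxeterSystem_simple]
  exact M.toCoxeterSystem.simple_mul_simple_pow _ _

/-- the parabolic subgroup generated by the first `k` simple reflections -/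
def para (k : ℕ) : Subgroup M.Group := Subgroup.closure (gen M '' Set.Iio k)

theorem gen_mem_para {k i : ℕ} (h : i < k) : gen M i ∈ para M k :=
  Subgroup.subset_closure ⟨i, h, rfl⟩

theorem para_mono {k l : ℕ} (h : k ≤ l) : para M k ≤ para M l :=
  Subgroup.closure_mono (Set.image_mono (Set.Iio_subset_Iio h))

theorem para_zero : para M 0 = ⊥ := by
  simp [para, Set.Iio]

theorem para_top : para M n = ⊤ := by
  rw [eq_top_iff, ← M.toCoxeterSystem.subgroup_closure_range_simple, M.toCoxeterSystem_simple]
  refine Subgroup.closure_mono ?_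
  rintro _ ⟨i, rfl⟩
  exact ⟨i, i.2, by simp [gen]⟩

/-- the element read off a list of letters -/
def wordOf : List ℕ → M.Group
  | [] => 1
  | a :: l => wordOf l * gen M a

theorem wordOf_append (l l' : List ℕ) : wordOf M (l ++ l') = wordOf M l' * wordOf M l := by
  induction l with
  | nil => simp [wordOf]
  | cons a l ih => simp [wordOf, ih, mul_assoc]

theorem wordOf_dedWord (i j : ℕ) (hi : i < n) (hj : j < n) (hm : 1 ≤ mNat M i j) :
    wordOf M (dedWord i j (mNat M i j)) = gen M i := by
  have hrep : ∀ k : ℕ, wordOf M (List.replicate k [j, i]).flatten = (gen M i * gen M j) ^ k := by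
    intro k
    induction k with
    | zero => simp [wordOf]
    | succ k ih => simp [List.replicate_succ, wordOf, ih, pow_succ, mul_assoc]
  have h1 : (gen M i * gen M j) ^ (mNat M i j - 1) = (gen M i * gen M j)⁻¹ := by
    refine eq_inv_of_mul_eq_one_left ?_
    rw [← pow_succ, Nat.sub_add_cancel hm]
    exact gen_mul_pow M i j hi hj
  rw [dedWord, wordOf_append, hrep, h1]
  simp [wordOf, gen_inv, ← mul_assoc, gen_mul_self]

variable (L : Level) (k : ℕ)

open Classical in
/-- coset representatives read off the tree -/
noncomputable def Level.rep (x : ℕ) : M.Group :=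
  Nat.strongRecOn x fun x ih =>
    if h : x ≠ 0 ∧ (L.par.getD x (0, 0)).1 < x then
      gen M (L.par.getD x (0, 0)).2 * ih _ h.2
    else 1

theorem Level.rep_zero : L.rep M 0 = 1 := by
  rw [Level.rep, Nat.strongRecOn_eq]
  simp

theorem Level.rep_tree {x : ℕ} (h0 : x ≠ 0) (h : (L.par.getD x (0, 0)).1 < x) :
    L.rep M x = gen M (L.par.getD x (0, 0)).2 * L.rep M (L.par.getD x (0, 0)).1 := by
  rw [Level.rep, Nat.strongRecOn_eq, dif_pos ⟨h0, h⟩]
  rfl

/-- the meaning of a known edge -/
def Level.Edge (x i : ℕ) : Prop :=
  (L.rep M (L.act x i))⁻¹ * gen M i * L.rep M x ∈ para M k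

/-- every bit stands for an edge -/
def Level.Sound (S : ℕ) : Prop := ∀ x i, i < 8 → knownBit S x i = true → L.Edge M k x i

theorem Level.sound_zero : L.Sound M k 0 := by
  intro x i _ h
  simp [knownBit] at h

theorem Level.sound_addBit {S x i : ℕ} (hS : L.Sound M k S) (hi : i < 8) (he : L.Edge M k x i) :
    L.Sound M k (addBit S x i) := by
  intro y j hj h
  simp only [knownBit, addBit, Nat.testBit_or, Bool.or_eq_true, Nat.shiftLeft_eq, one_mul,
    Nat.testBit_two_pow, decide_eq_true_eq] at h
  rcases h with h | h
  · exact hS y j hj h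
  · obtain ⟨rfl, rfl⟩ : x = y ∧ i = j := by omega
    exact he

theorem Level.edge_symm {x i : ℕ} (hinv : L.act (L.act x i) i = x) (h : L.Edge M k x i) :
    L.Edge M k (L.act x i) i := by
  unfold Level.Edge at h ⊢
  rw [hinv]
  have := Subgroup.inv_mem _ h
  simpa [mul_assoc, gen_inv] using this

theorem Level.walk_sound {S : ℕ} (hS : L.Sound M k S) :
    ∀ (l : List ℕ) (x y : ℕ), L.walk S x l = some y →
      (L.rep M y)⁻¹ * wordOf M l * L.rep M x ∈ para M k := by
  intro l
  induction l with
  | nil =>
    intro x y h
    simp only [Level.walk, Option.some.injEq] at h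
    simp [h, wordOf]
  | cons a l ih =>
    intro x y h
    simp only [Level.walk] at h
    split_ifs at h with hc
    simp only [Bool.and_eq_true, decide_eq_true_eq] at hc
    have := Subgroup.mul_mem _ (ih _ _ h) (hS x a hc.2 hc.1)
    simpa [wordOf, mul_assoc] using this

theorem Level.step_sound (hk : k < 8) (hkn : k < n)
    (hinv : ∀ x, x < L.size → ∀ i, i ≤ k → L.act (L.act x i) i = x)
    {S : ℕ} (hS : L.Sound M k S) (e : ℕ × ℕ × ℕ) :
    L.Sound M k (L.step k (mNat M) S e) := by
  obtain ⟨x, i, j⟩ := e
  simp only [Level.step]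
  split_ifs with h
  · simp only [Bool.and_eq_true, decide_eq_true_eq, beq_iff_eq] at h
    obtain ⟨⟨⟨⟨hx, hi⟩, hj⟩, hm⟩, hw⟩ := h
    have hE : L.Edge M k x i := by
      have := L.walk_sound M k hS _ _ _ hw
      rwa [wordOf_dedWord M i j (by omega) (by omega) hm] at this
    exact L.sound_addBit M k (L.sound_addBit M k hS (by omega) hE) (by omega)
      (L.edge_symm M k (hinv x hx i hi) hE)
  · exact hS

/-- what a successful check gives -/
structure Level.Good (A : List (List ℤ)) : Prop where
  pos : 0 < L.size
  lt : k < n
  len : ∀ x, x < L.size → (L.pt x).length = n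
  idx : ∀ x, x < L.size → L.orbit.idxOf (L.pt x) = x
  act_lt : ∀ x, x < L.size → ∀ i, i ≤ k → L.act x i < L.size
  refl_eq : ∀ x, x < L.size → ∀ i, i ≤ k → reflList n A i (L.pt x) = L.pt (L.act x i)
  act_zero : ∀ i, i < k → L.act 0 i = 0
  tree : ∀ x, x < L.size → x ≠ 0 → (L.par.getD x (0, 0)).1 < x ∧ (L.par.getD x (0, 0)).2 ≤ k
    ∧ L.act (L.par.getD x (0, 0)).1 (L.par.getD x (0, 0)).2 = x
  edge : ∀ x, x < L.size → ∀ i, i ≤ k → L.Edge M k x i

theorem Level.good_of_check (A : List (List ℤ)) (h : L.check n A k (mNat M) = true) :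
    L.Good M k A := by
  simp only [Level.check, Bool.and_eq_true, decide_eq_true_eq, List.all_eq_true, List.mem_range,
    Bool.or_eq_true, beq_iff_eq] at h
  obtain ⟨⟨⟨⟨⟨⟨hpos, hk8⟩, hkn⟩, horb⟩, hzero⟩, htree⟩, hall⟩ := h
  have hinv : ∀ x, x < L.size → ∀ i, i ≤ k → L.act (L.act x i) i = x := fun x hx i hi =>
    ((horb x hx).2 i (by omega)).1.2
  have tree : ∀ x, x < L.size → x ≠ 0 → (L.par.getD x (0, 0)).1 < x ∧ (L.par.getD x (0, 0)).2 ≤ k
      ∧ L.act (L.par.getD x (0, 0)).1 (L.par.getD x (0, 0)).2 = x := by
    intro x hx h0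
    rcases htree x hx with h | h
    · exact absurd h h0
    · exact ⟨h.1.1, h.1.2, h.2⟩
  -- soundness of the initial bits
  have s1 : ∀ (is : List ℕ), (∀ i ∈ is, i < k) → ∀ S, L.Sound M k S →
      L.Sound M k (is.foldl (fun S i => addBit S 0 i) S) := by
    intro is
    induction is with
    | nil => intro _ S hS; exact hS
    | cons i is ih =>
      intro hmem S hS
      have hi : i < k := hmem i (by simp)
      refine ih (fun j hj => hmem j (by simp [hj])) _ (L.sound_addBit M k hS (by omega) ?_)
      simp [Level.Edge, hzero i hi, L.rep_zero, gen_mem_para M hi]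
  have s2 : ∀ (xs : List ℕ), (∀ x ∈ xs, x < L.size) → ∀ S, L.Sound M k S →
      L.Sound M k (xs.foldl (fun S x =>
        if x = 0 then S else
          addBit (addBit S (L.par.getD x (0, 0)).1 (L.par.getD x (0, 0)).2) x
            (L.par.getD x (0, 0)).2) S) := by
    intro xs
    induction xs with
    | nil => intro _ S hS; exact hS
    | cons x xs ih =>
      intro hmem S hS
      refine ih (fun j hj => hmem j (by simp [hj])) _ ?_
      dsimp only
      split_ifs with h0
      · exact hS
      · have hx := hmem x (by simp)
        obtain ⟨ha, hb, hc⟩ := tree x hx h0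
        have hE : L.Edge M k (L.par.getD x (0, 0)).1 (L.par.getD x (0, 0)).2 := by
          unfold Level.Edge
          rw [hc, L.rep_tree M h0 ha]
          simp [mul_assoc]
        have hE' := L.edge_symm M k (hinv _ (by omega) _ hb) hE
        rw [hc] at hE'
        exact L.sound_addBit M k (L.sound_addBit M k hS (by omega) hE) (by omega) hE'
  have s0 : L.Sound M k (L.init k) :=
    s2 _ (fun x hx => List.mem_range.1 hx) _
      (s1 _ (fun i hi => List.mem_range.1 hi) _ (L.sound_zero M k))
  have s3 : ∀ (es : List (ℕ × ℕ × ℕ)) (S : ℕ), L.Sound M k S →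
      L.Sound M k (L.run k (mNat M) S es) := by
    intro es
    induction es with
    | nil => intro S hS; exact hS
    | cons e es ih =>
      intro S hS
      have := L.step_sound M k hk8 hkn hinv hS e
      simp only [Level.run]
      split <;> rename_i he <;> rw [he] at this <;> exact ih _ this
  exact {
    pos := hpos
    lt := hkn
    len := fun x hx => (horb x hx).1.1
    idx := fun x hx => (horb x hx).1.2
    act_lt := fun x hx i hi => ((horb x hx).2 i (by omega)).1.1
    refl_eq := fun x hx i hi => ((horb x hx).2 i (by omega)).2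
    act_zero := hzero
    tree := tree
    edge := fun x hx i hi => s3 _ _ s0 x i (by omega) (hall x hx i (by omega)) }

variable {A : List (List ℤ)} (hA : checkRep M A = true) {L k} (g : L.Good M k A)

include g in
theorem Level.rep_mem : ∀ x, x < L.size → L.rep M x ∈ para M (k + 1) := by
  intro x
  induction x using Nat.strongRecOn with
  | _ x ih =>
    intro hx
    rcases eq_or_ne x 0 with rfl | h0
    · rw [L.rep_zero]; exact one_mem _
    · obtain ⟨ha, hb, _⟩ := g.tree x hx h0
      rw [L.rep_tree M h0 ha]
      exact mul_mem (gen_mem_para M (by omega)) (ih _ ha (by omega))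

include g in
theorem Level.exists_coset {w : M.Group} (hw : w ∈ para M (k + 1)) :
    ∃ x < L.size, (L.rep M x)⁻¹ * w ∈ para M k := by
  induction hw using Subgroup.closure_induction_left with
  | one => exact ⟨0, g.pos, by simp [L.rep_zero]⟩
  | mul_left a ha b _ ih =>
    obtain ⟨i, hi, rfl⟩ := ha
    have hi' : i ≤ k := Nat.lt_succ_iff.1 hi
    obtain ⟨x, hx, hxb⟩ := ih
    refine ⟨_, g.act_lt x hx i hi', ?_⟩
    simpa [mul_assoc] using mul_mem (g.edge x hx i hi') hxb
  | inv_mul_cancel a ha b _ ih =>
    obtain ⟨i, hi, rfl⟩ := ha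
    have hi' : i ≤ k := Nat.lt_succ_iff.1 hi
    obtain ⟨x, hx, hxb⟩ := ih
    refine ⟨_, g.act_lt x hx i hi', ?_⟩
    simpa [mul_assoc, gen_inv] using mul_mem (g.edge x hx i hi') hxb

include g in
theorem Level.rho_gen_pt {x i : ℕ} (hx : x < L.size) (hi : i ≤ k) :
    rho M A hA (gen M i) (toV n (L.pt x)) = toV n (L.pt (L.act x i)) := by
  have hin : i < n := lt_of_le_of_lt hi g.lt
  rw [← g.refl_eq x hx i hi, gen, dif_pos hin, rho_simple]
  exact (toV_reflList n A ⟨i, hin⟩ _).symm

include g in
theorem Level.rho_para_pt {w : M.Group} (hw : w ∈ para M k) :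
    rho M A hA w (toV n (L.pt 0)) = toV n (L.pt 0) := by
  have h1 : ∀ i < k, rho M A hA (gen M i) (toV n (L.pt 0)) = toV n (L.pt 0) := fun i hi => by
    rw [L.rho_gen_pt M hA g g.pos hi.le, g.act_zero i hi]
  induction hw using Subgroup.closure_induction_left with
  | one => simp
  | mul_left a ha b _ ih =>
    obtain ⟨i, hi, rfl⟩ := ha
    simp [Module.End.mul_apply, ih, h1 i hi]
  | inv_mul_cancel a ha b _ ih =>
    obtain ⟨i, hi, rfl⟩ := ha
    simp [gen_inv, Module.End.mul_apply, ih, h1 i hi]

include g in
theorem Level.rho_rep_pt : ∀ x, x < L.size →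
    rho M A hA (L.rep M x) (toV n (L.pt 0)) = toV n (L.pt x) := by
  intro x
  induction x using Nat.strongRecOn with
  | _ x ih =>
    intro hx
    rcases eq_or_ne x 0 with rfl | h0
    · simp [L.rep_zero]
    · obtain ⟨ha, hb, hc⟩ := g.tree x hx h0
      rw [L.rep_tree M h0 ha, map_mul, Module.End.mul_apply, ih _ ha (by omega),
        L.rho_gen_pt M hA g (by omega) hb, hc]

include g in
theorem Level.pt_inj {x y : ℕ} (hx : x < L.size) (hy : y < L.size)
    (h : toV n (L.pt x) = toV n (L.pt y)) : x = y := by
  have : L.pt x = L.pt y := by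
    refine List.ext_getElem (by rw [g.len x hx, g.len y hy]) fun m hm hm' => ?_
    have := congrFun h ⟨m, g.len x hx ▸ hm⟩
    simp only [toV] at this
    rwa [List.getD_eq_getElem _ _ hm, List.getD_eq_getElem _ _ hm'] at this
  rw [← g.idx x hx, ← g.idx y hy, this]

include hA g in
theorem Level.card_para_succ :
    Nat.card (para M (k + 1)) = L.size * Nat.card (para M k) := by
  have hle : para M k ≤ para M (k + 1) := para_mono M (Nat.le_succ k)
  let f : Fin L.size × para M k → para M (k + 1) := fun p =>
    ⟨L.rep M p.1 * p.2, mul_mem (L.rep_mem M g p.1 p.1.2) (hle p.2.2)⟩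
  have hf : Bijective f := by
    constructor
    · rintro ⟨x, a⟩ ⟨y, b⟩ h
      have h' : L.rep M x * (a : M.Group) = L.rep M y * b := congrArg Subtype.val h
      have hv := congrArg (fun u => rho M A hA u (toV n (L.pt 0))) h'
      simp only [map_mul, Module.End.mul_apply, L.rho_para_pt M hA g a.2,
        L.rho_para_pt M hA g b.2, L.rho_rep_pt M hA g _ x.2, L.rho_rep_pt M hA g _ y.2] at hv
      obtain rfl : x = y := Fin.ext (L.pt_inj M g x.2 y.2 hv)
      simp only [mul_right_inj] at h'
      exact Prod.ext rfl (Subtype.ext h')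
    · intro w
      obtain ⟨x, hx, hxw⟩ := L.exists_coset M g w.2
      exact ⟨(⟨x, hx⟩, ⟨_, hxw⟩), Subtype.ext (by simp [f])⟩
  rw [← Nat.card_eq_of_bijective f hf, Nat.card_prod, Nat.card_fin]

include hA g in
theorem Level.mem_para_of_fix {w : M.Group} (hw : w ∈ para M (k + 1))
    (h : rho M A hA w (toV n (L.pt 0)) = toV n (L.pt 0)) : w ∈ para M k := by
  obtain ⟨x, hx, hxw⟩ := L.exists_coset M g hw
  have hv : rho M A hA w (toV n (L.pt 0)) = toV n (L.pt x) := by
    have e : w = L.rep M x * ((L.rep M x)⁻¹ * w) := by simp
    rw [e, map_mul, Module.End.mul_apply, L.rho_para_pt M hA g hxw, L.rho_rep_pt M hA g x hx]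
  obtain rfl : x = 0 := L.pt_inj M g hx g.pos (hv.symm.trans h)
  simpa [L.rep_zero] using hxw

end Cosets

section Main

variable {M : CoxeterMatrix (Fin n)} {A : List (List ℤ)} {cert : List Level}
  (hA : checkRep M A = true) (hc : checkAll M A cert = true)

include hc in
theorem good_of_checkAll {k : ℕ} (hk : k < n) :
    ∃ L, cert[k]? = some L ∧ L.Good M k A := by
  simp only [checkAll, Bool.and_eq_true, decide_eq_true_eq, List.all_eq_true, List.mem_range] at hc
  have hk' := hc.2 k hk
  cases hck : cert[k]? with
  | none => rw [hck] at hk'; simp at hk'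
  | some L => rw [hck] at hk'; exact ⟨L, rfl, L.good_of_check M k A hk'⟩

include hA hc in
theorem card_para_eq : ∀ k ≤ n, Nat.card (para M k) = ((cert.take k).map Level.size).prod := by
  intro k
  induction k with
  | zero => intro _; simp [para_zero]
  | succ k ih =>
    intro hk
    obtain ⟨L, hL, g⟩ := good_of_checkAll hc (k := k) (by omega)
    rw [L.card_para_succ M hA g, ih (by omega), List.take_add_one, hL]
    simp [mul_comm]

include hA hc in
/-- the order of the Coxeter group is the product of the orbit sizes -/
theorem card_group : Nat.card M.Group = (cert.map Level.size).prod := by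
  have hlen : cert.length = n := by
    simp only [checkAll, Bool.and_eq_true, decide_eq_true_eq] at hc
    exact hc.1
  have h := card_para_eq hA hc n le_rfl
  rw [para_top, List.take_of_length_le hlen.le, Subgroup.card_top] at h
  exact h

include hc in
/-- the representation is faithful -/
theorem rho_injective : Injective (rho M A hA) := by
  rw [injective_iff_map_eq_one]
  intro w hw
  suffices h : ∀ k ≤ n, w ∈ para M k → w = 1 from h n le_rfl (by rw [para_top]; trivial)
  intro k
  induction k with
  | zero => intro _ h; simpa [para_zero] using h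
  | succ k ih =>
    intro hk hmem
    obtain ⟨L, _, g⟩ := good_of_checkAll hc (k := k) (by omega)
    exact ih (by omega) (L.mem_para_of_fix M hA g hmem (by simp [hw]))

end Main

/-- apply a word to a list vector, last letter first -/
def applyWord (n : ℕ) (A : List (List ℤ)) : List ℕ → List ℤ → List ℤ
  | [], l => l
  | a :: w, l => reflList n A a (applyWord n A w l)

theorem rho_prod_simple (M : CoxeterMatrix (Fin n)) (A : List (List ℤ))
    (hA : checkRep M A = true) (w : List (Fin n)) (l : List ℤ) :
    rho M A hA (w.map M.simple).prod (toV n l) = toV n (applyWord n A (w.map Fin.val) l) := by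
  induction w with
  | nil => simp [applyWord]
  | cons a w ih => simp [applyWord, rho_simple, toV_reflList, Module.End.mul_apply, ih]

/-- check that a word is the identity of the representation -/
def fixesAll (n : ℕ) (A : List (List ℤ)) (w : List ℕ) : Bool :=
  (List.range n).all fun k => applyWord n A w (unitList n k) == unitList n k

theorem prod_simple_eq_one_iff {M : CoxeterMatrix (Fin n)} {A : List (List ℤ)} {cert : List Level}
    (hA : checkRep M A = true) (hc : checkAll M A cert = true) (w : List (Fin n)) :
    (w.map M.simple).prod = 1 ↔ fixesAll n A (w.map Fin.val) = true := by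
  rw [← map_eq_one_iff (rho M A hA) (rho_injective hA hc)]
  simp only [fixesAll, List.all_eq_true, List.mem_range, beq_iff_eq]
  constructor
  · intro h k hk
    have e : toV n (applyWord n A (w.map Fin.val) (unitList n k)) = toV n (unitList n k) := by
      rw [← rho_prod_simple M A hA, h]; rfl
    refine List.ext_getElem ?_ fun m hm hm' => ?_
    · cases w with
      | nil => rfl
      | cons a w => simp [applyWord, reflList, unitList]
    · have hmn : m < n := by simpa [unitList] using hm'
      have := congrFun e ⟨m, hmn⟩
      simp only [toV] at this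
      rwa [List.getD_eq_getElem _ _ hm, List.getD_eq_getElem _ _ hm'] at this
  · intro h
    refine (Pi.basisFun ℤ (Fin n)).ext fun k => ?_
    have := congrArg (toV n) (h k k.2)
    rw [← rho_prod_simple M A hA, toV_unitList] at this
    simpa using this

/-- check that the product of all simple reflections has order `h` -/
def checkOrder (n : ℕ) (A : List (List ℤ)) (h : ℕ) : Bool :=
  decide (0 < h) && fixesAll n A (List.replicate h (List.range n)).flatten
  && (List.range h).all fun m =>
    decide (m = 0) || !fixesAll n A (List.replicate m (List.range n)).flatten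

theorem orderOf_coxeter_element {M : CoxeterMatrix (Fin n)} {A : List (List ℤ)}
    {cert : List Level} {h : ℕ} (hA : checkRep M A = true) (hc : checkAll M A cert = true)
    (ho : checkOrder n A h = true) : orderOf ((List.finRange n).map M.simple).prod = h := by
  have key : ∀ m : ℕ, ((List.finRange n).map M.simple).prod ^ m = 1 ↔
      fixesAll n A (List.replicate m (List.range n)).flatten = true := by
    intro m
    have e : ((List.replicate m (List.finRange n)).flatten.map M.simple).prod
        = ((List.finRange n).map M.simple).prod ^ m := by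
      simp [List.map_flatten, List.prod_flatten]
    rw [← e, prod_simple_eq_one_iff hA hc]
    simp [List.map_flatten, List.map_replicate]
  simp only [checkOrder, Bool.and_eq_true, decide_eq_true_eq, List.all_eq_true, List.mem_range,
    Bool.or_eq_true, Bool.not_eq_true'] at ho
  obtain ⟨⟨hpos, h1⟩, h2⟩ := ho
  rw [orderOf_eq_iff hpos]
  refine ⟨(key h).2 h1, fun m hm hm0 hc1 => ?_⟩
  rcases h2 m hm with h3 | h3
  · omega
  · rw [(key m).1 hc1] at h3; exact Bool.noConfusion h3

end Cfsg.Agent.WeylGroup
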