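import Cfsg.Agent.WeylGroup.Basic

/-! Coset-table certificate for the Coxeter group of type B2. -/

set_option autoImplicit false

namespace Cfsg.Agent.WeylGroup

def b2Rows : List (List ℤ) :=
  [
    [2, -2], [-1, 2]]

def b2Level0 : Level where
  size := 2
  orbit := [
    [1, 0], [-1, 2]]
  tbl := 0x1
  par := [
    (0, 0), (0, 0)]
  steps := [
    ]

def b2Level1 : Level where
  size := 4
  orbit := [
    [0, 1], [1, -1], [-1, 1], [0, -1]]
  tbl := 0x203000000000000030100000000000000020000000000000100
  par := [
    (0, 0), (0, 1), (1, 0), (2, 1)]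
  steps := [
    (3, 0, 1)]

def b2Cert : List Level :=
  [b2Level0, b2Level1]

theorem b2_checkRep : checkRep (CoxeterMatrix.B 2) b2Rows = true := by decide +kernel

theorem b2_checkAll : checkAll (CoxeterMatrix.B 2) b2Rows b2Cert = true := by decide +kernel

theorem card_b2 : Nat.card (CoxeterMatrix.B 2).Group = 8 := by
  rw [card_group b2_checkRep b2_checkAll]; rfl

end Cfsg.Agent.WeylGroup
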