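import Cfsg.Agent.WeylGroup.Basic
import Cfsg.Prelude.Def_ChevStructure

/-! Coset-table certificate for the Coxeter group of type D4. -/

set_option autoImplicit false

namespace Cfsg.Agent.WeylGroup

def d4Rows : List (List ℤ) :=
  [
    [2, -1, 0, 0], [-1, 2, -1, -1], [0, -1, 2, 0], [0, -1, 0, 2]]

def d4Level0 : Level where
  size := 2
  orbit := [
    [1, 0, 0, 0], [-1, 1, 0, 0]]
  tbl := 0x1
  par := [
    (0, 0), (0, 0)]
  steps := [
    ]

def d4Level1 : Level where
  size := 3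
  orbit := [
    [0, 1, 0, 0], [1, -1, 1, 1], [-1, 0, 1, 1]]
  tbl := 0x20100000000000000020000000000000100
  par := [
    (0, 0), (0, 1), (1, 0)]
  steps := [
    (2, 1, 0)]

def d4Level2 : Level where
  size := 4
  orbit := [
    [0, 0, 1, 0], [0, 1, -1, 0], [1, -1, 0, 1], [-1, 0, 0, 1]]
  tbl := 0x30302000000000002010300000000000002010000000000010000
  par := [
    (0, 0), (0, 2), (1, 1), (2, 0)]
  steps := [
    (1, 0, 2), (2, 2, 1), (3, 1, 0), (3, 2, 0)]

def d4Level3 : Level where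
  size := 8
  orbit := [
    [0, 0, 0, 1], [0, 1, 0, -1], [1, -1, 1, 0], [-1, 0, 1, 0], [1, 0, -1, 0], [-1, 1, -1, 0],
    [0, -1, 0, 1], [0, 0, 0, -1]]
  tbl := 0x60707070000000007060506000000000503060400000000040204050000000003050302000000000204010300000000000102010000000001000000
  par := [
    (0, 0), (0, 3), (1, 1), (2, 0), (2, 2), (3, 2), (5, 1), (6, 3)]
  steps := [
    (1, 0, 3), (1, 2, 3), (2, 3, 1), (3, 1, 0), (3, 3, 0), (4, 0, 2), (4, 1, 2), (4, 3, 2),
    (5, 3, 0), (6, 0, 1), (6, 2, 1), (7, 0, 3), (7, 1, 3), (7, 2, 3)]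

def d4Cert : List Level :=
  [d4Level0, d4Level1, d4Level2, d4Level3]

theorem d4_checkRep : checkRep Cfsg.Lie.coxeterD4 d4Rows = true := by decide +kernel

theorem d4_checkAll : checkAll Cfsg.Lie.coxeterD4 d4Rows d4Cert = true := by decide +kernel

theorem card_d4 : Nat.card Cfsg.Lie.coxeterD4.Group = 192 := by
  rw [card_group d4_checkRep d4_checkAll]; rfl

end Cfsg.Agent.WeylGroup
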