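import Cfsg.Agent.WeylGroup.Basic

/-!
The centre of a finite Coxeter group with a faithful integral reflection representation, and
generation by the product of the simple reflections together with chosen simple reflections.
-/

set_option autoImplicit false

namespace Cfsg.Agent.WeylGroup

open Function

variable {n : ℕ}

/-- one round of the neighbourhood search in the diagram -/
def reachStep (n : ℕ) (A : List (List ℤ)) (S : List ℕ) : List ℕ :=
  (List.range n).filter fun i => S.contains i || S.any fun j => entry A i j != 0

/-- the nodes reached from node `0` -/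
def reach (n : ℕ) (A : List (List ℤ)) : ℕ → List ℕ
  | 0 => [0]
  | m + 1 => reachStep n A (reach n A m)

/-- check that the diagonal entries are `2` and that the diagram is connected -/
def checkDiagram (n : ℕ) (A : List (List ℤ)) : Bool :=
  decide (0 < n) && ((List.range n).all fun i => entry A i i == 2)
  && ((List.range n).all fun i => (reach n A n).contains i)

/-- check that the `m`-th power of the product of all simple reflections is `-1` -/
def checkNeg (n : ℕ) (A : List (List ℤ)) (m : ℕ) : Bool :=
  (List.range n).all fun k =>
    applyWord n A (List.replicate m (List.range n)).flatten (unitList n k)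
      == (unitList n k).map fun x => -x

/-- check that the opposite of the base point is not in the last orbit -/
def checkNoNeg (n : ℕ) (L : Level) : Bool :=
  (List.range L.size).all fun x =>
    (List.range n).any fun j => (L.pt x).getD j 0 != -((L.pt 0).getD j 0)

theorem toV_neg_unitList (n : ℕ) (k : Fin n) :
    toV n ((unitList n k).map fun x => -x) = -Pi.single k 1 := by
  ext j
  simp only [toV, unitList, Pi.neg_apply]
  rw [List.getD_eq_getElem _ _ (by simp)]
  simp [Pi.single_apply, Fin.val_inj]

theorem coxeter_pow_eq (M : CoxeterMatrix (Fin n)) (m : ℕ) :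
    ((List.replicate m (List.finRange n)).flatten.map M.simple).prod
      = ((List.finRange n).map M.simple).prod ^ m := by
  simp [List.map_flatten, List.prod_flatten]

variable {M : CoxeterMatrix (Fin n)} {A : List (List ℤ)} {cert : List Level}
  (hA : checkRep M A = true) (hd : checkDiagram n A = true)

include hd in
theorem rho_center_eq {w : M.Group} (hw : w ∈ Subgroup.center M.Group) :
    rho M A hA w = 1 ∨ rho M A hA w = -1 := by
  simp only [checkDiagram, Bool.and_eq_true, decide_eq_true_eq, List.all_eq_true, List.mem_range,
    beq_iff_eq, List.contains_iff_mem] at hd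
  obtain ⟨⟨hn, hdiag⟩, hreach⟩ := hd
  set W := rho M A hA w with hW
  let row : Fin n → Fin n → ℤ := fun i j => entry A i j
  have hr : ∀ (i : Fin n) (v : Fin n → ℤ), reflLin n A i v = v - v i • row i := fun i v => by
    ext j
    simp [reflLin, row]
  have hcomm : ∀ (i : Fin n) (v : Fin n → ℤ), v i • W (row i) = W v i • row i := by
    intro i v
    have h1 := congrArg (fun u => rho M A hA u v) (Subgroup.mem_center_iff.1 hw (M.simple i))
    simp only [map_mul, Module.End.mul_apply, rho_simple, hr, ← hW, map_sub, map_smul] at h1
    exact (sub_right_inj.1 h1).symm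
  let lam : Fin n → ℤ := fun i => W (Pi.single i 1) i
  have hrow : ∀ i, W (row i) = lam i • row i := fun i => by
    simpa using hcomm i (Pi.single i 1)
  have hdiagW : ∀ (v : Fin n → ℤ) (i : Fin n), W v i = lam i * v i := by
    intro v i
    have h1 := congrFun (hcomm i v) i
    rw [hrow] at h1
    simp only [Pi.smul_apply, smul_eq_mul, row, hdiag i i.2] at h1
    linarith
  have hedge : ∀ i j : Fin n, entry A i j ≠ 0 → lam i = lam j := by
    intro i j hij
    have h1 := congrFun (hrow i) j
    rw [hdiagW] at h1
    simp only [Pi.smul_apply, smul_eq_mul, row] at h1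
    exact (mul_right_cancel₀ hij h1).symm
  have hconst : ∀ m, ∀ i ∈ reach n A m, ∀ h : i < n, lam ⟨i, h⟩ = lam ⟨0, hn⟩ := by
    intro m
    induction m with
    | zero =>
      intro i hi h
      simp only [reach, List.mem_singleton] at hi
      subst hi
      rfl
    | succ m ih =>
      intro i hi h
      simp only [reach, reachStep, List.mem_filter, List.mem_range, Bool.or_eq_true,
        List.contains_iff_mem, List.any_eq_true, bne_iff_ne] at hi
      rcases hi.2 with hi' | ⟨j, hj, hij⟩
      · exact ih i hi' h
      · by_cases hjn : j < n
        · rw [hedge ⟨i, h⟩ ⟨j, hjn⟩ hij, ih j hj hjn]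
        · exfalso
          cases m with
          | zero => simp only [reach, List.mem_singleton] at hj; omega
          | succ m =>
            simp only [reach, reachStep, List.mem_filter, List.mem_range] at hj
            omega
  have hWv : ∀ v, W v = lam ⟨0, hn⟩ • v := fun v => by
    ext i
    rw [hdiagW, hconst n i (hreach i i.2) i.2]
    simp
  have hunit : lam ⟨0, hn⟩ = 1 ∨ lam ⟨0, hn⟩ = -1 := by
    have h1 : W (rho M A hA w⁻¹ (Pi.single ⟨0, hn⟩ 1)) = Pi.single ⟨0, hn⟩ 1 := by
      rw [hW, ← Module.End.mul_apply, ← map_mul]
      simp
    have h2 := congrFun h1 ⟨0, hn⟩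
    rw [hdiagW, Pi.single_eq_same] at h2
    exact Int.eq_one_or_neg_one_of_mul_eq_one h2
  rcases hunit with h | h
  · exact Or.inl (LinearMap.ext fun v => by rw [hWv, h]; simp)
  · exact Or.inr (LinearMap.ext fun v => by rw [hWv, h]; simp)

include hA hd in
/-- the centre has order two, generated by a power of the product of the simple reflections -/
theorem center_of_neg (hc : checkAll M A cert = true) {m : ℕ} (hneg : checkNeg n A m = true) :
    Nat.card (Subgroup.center M.Group) = 2 ∧
      Subgroup.center M.Group ≤ Subgroup.zpowers ((List.finRange n).map M.simple).prod := by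
  have hn : 0 < n := by
    simp only [checkDiagram, Bool.and_eq_true, decide_eq_true_eq] at hd
    exact hd.1.1
  set z := ((List.finRange n).map M.simple).prod ^ m with hz
  have hinj := rho_injective hA hc
  have hzneg : rho M A hA z = -1 := by
    simp only [checkNeg, List.all_eq_true, List.mem_range, beq_iff_eq] at hneg
    refine (Pi.basisFun ℤ (Fin n)).ext fun k => ?_
    have h1 := congrArg (toV n) (hneg k k.2)
    rw [toV_neg_unitList] at h1
    rw [hz, ← coxeter_pow_eq, Pi.basisFun_apply, ← toV_unitList, rho_prod_simple]
    simpa [List.map_flatten, List.map_replicate, toV_unitList] using h1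
  have hzc : z ∈ Subgroup.center M.Group := by
    rw [Subgroup.mem_center_iff]
    intro g
    refine hinj ?_
    rw [map_mul, map_mul, hzneg]
    simp
  have hne : z ≠ 1 := by
    intro h
    have h1 := congrFun (LinearMap.congr_fun hzneg (Pi.single (⟨0, hn⟩ : Fin n) 1)) ⟨0, hn⟩
    simp [h] at h1
  have hset : (Subgroup.center M.Group : Set M.Group) = {1, z} := by
    ext w
    simp only [SetLike.mem_coe, Set.mem_insert_iff, Set.mem_singleton_iff]
    constructor
    · intro hw
      rcases rho_center_eq hA hd hw with h | h
      · exact Or.inl (hinj (by rw [h, map_one]))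
      · exact Or.inr (hinj (by rw [h, hzneg]))
    · rintro (rfl | rfl)
      · exact one_mem _
      · exact hzc
  refine ⟨?_, fun w hw => ?_⟩
  · rw [← SetLike.coe_sort_coe, hset, Nat.card_coe_set_eq, Set.ncard_pair (Ne.symm hne)]
  · have hw' : w ∈ (Subgroup.center M.Group : Set M.Group) := hw
    rw [hset] at hw'
    rcases hw' with rfl | rfl
    · exact one_mem _
    · exact Subgroup.pow_mem _ (Subgroup.mem_zpowers _) m

include hA hd in
/-- the centre is trivial when `-1` is not in the image -/
theorem center_of_no_neg (hc : checkAll M A cert = true) {k : ℕ} (hk : k + 1 = n) {L : Level}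
    (hL : cert[k]? = some L) (hno : checkNoNeg n L = true) :
    Nat.card (Subgroup.center M.Group) = 1 ∧
      Subgroup.center M.Group ≤ Subgroup.zpowers ((List.finRange n).map M.simple).prod := by
  obtain ⟨L', hL', g⟩ := good_of_checkAll hc (k := k) (by omega)
  rw [hL, Option.some.injEq] at hL'
  subst hL'
  have hbot : Subgroup.center M.Group = ⊥ := by
    rw [eq_bot_iff]
    intro w hw
    rcases rho_center_eq hA hd hw with h | h
    · exact Subgroup.mem_bot.2 (rho_injective hA hc (by rw [h, map_one]))
    · exfalso
      have htop : w ∈ para M (k + 1) := by rw [hk, para_top]; trivial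
      obtain ⟨x, hx, hxw⟩ := L.exists_coset M g htop
      have hv : rho M A hA w (toV n (L.pt 0)) = toV n (L.pt x) := by
        have e : w = L.rep M x * ((L.rep M x)⁻¹ * w) := by simp
        rw [e, map_mul, Module.End.mul_apply, L.rho_para_pt M hA g hxw, L.rho_rep_pt M hA g x hx]
      simp only [checkNoNeg, List.all_eq_true, List.mem_range, List.any_eq_true, bne_iff_ne] at hno
      obtain ⟨j, hj, hne⟩ := hno x hx
      refine hne ?_
      have h1 := congrFun hv ⟨j, hj⟩
      rw [h] at h1
      simpa [toV] using h1.symm
  rw [hbot]
  exact ⟨Subgroup.card_bot, bot_le⟩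

/-! ### Generation -/

/-- the word of a token: `0` the product, `1` its inverse, `k + 2` the `k`-th chosen reflection -/
def tokWord (ts : List (Fin n)) : ℕ → List (Fin n)
  | 0 => List.finRange n
  | 1 => (List.finRange n).reverse
  | k + 2 => match ts[k]? with
    | some a => [a]
    | none => []

/-- check that each simple reflection is the given product of tokens -/
def checkGen (n : ℕ) (A : List (List ℤ)) (ts : List (Fin n)) (gc : List (List ℕ)) : Bool :=
  (List.finRange n).all fun j =>
    fixesAll n A ((((gc.getD j.val []).flatMap (tokWord ts)) ++ [j]).map Fin.val)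

include hA in
theorem closure_eq_top (hc : checkAll M A cert = true) {ts : List (Fin n)} {gc : List (List ℕ)}
    (hg : checkGen n A ts gc = true) (H : Subgroup M.Group)
    (hcox : ((List.finRange n).map M.simple).prod ∈ H) (hts : ∀ a ∈ ts, M.simple a ∈ H) :
    H = ⊤ := by
  simp only [checkGen, List.all_eq_true, List.mem_finRange, forall_const] at hg
  have htok : ∀ t, ((tokWord ts t).map M.simple).prod ∈ H := by
    intro t
    match t with
    | 0 => exact hcox
    | 1 =>
      have e : (((List.finRange n).reverse).map M.simple).prod
          = (((List.finRange n).map M.simple).prod)⁻¹ := by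
        rw [List.prod_inv_reverse, List.map_reverse, List.map_map]
        congr 2
        refine List.map_congr_left fun a _ => ?_
        simp only [Function.comp_apply]
        rw [← M.toCoxeterSystem_simple, CoxeterSystem.inv_simple]
      simp only [tokWord]
      rw [e]
      exact inv_mem hcox
    | k + 2 =>
      cases hk : ts[k]? with
      | none => simp [tokWord, hk, one_mem]
      | some a => simpa [tokWord, hk] using hts a (List.mem_of_getElem? hk)
  have hflat : ∀ l : List ℕ, ((l.flatMap (tokWord ts)).map M.simple).prod ∈ H := by
    intro l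
    induction l with
    | nil => simp [one_mem]
    | cons t l ih => simpa [List.map_append] using mul_mem (htok t) ih
  have hsimple : ∀ j, M.simple j ∈ H := by
    intro j
    have h1 := (prod_simple_eq_one_iff hA hc _).2 (hg j)
    rw [List.map_append, List.prod_append, List.map_singleton, List.prod_singleton] at h1
    rw [← inv_eq_of_mul_eq_one_right h1]
    exact inv_mem (hflat _)
  rw [eq_top_iff, ← M.toCoxeterSystem.subgroup_closure_range_simple, M.toCoxeterSystem_simple,
    Subgroup.closure_le]
  rintro _ ⟨i, rfl⟩
  exact hsimple i

include hA in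
theorem exists_gen_one (hc : checkAll M A cert = true) (a : Fin n) {gc : List (List ℕ)}
    (hg : checkGen n A [a] gc = true) :
    ∃ T : Finset M.Group, T.card = 1 ∧
      (∀ t ∈ T, ∃ (g : M.Group) (i : Fin n), t = g * M.simple i * g⁻¹) ∧
      Subgroup.closure (({((List.finRange n).map M.simple).prod} : Set M.Group) ∪ ↑T) = ⊤ := by
  refine ⟨{M.simple a}, Finset.card_singleton _, fun t ht => ⟨1, a, ?_⟩, ?_⟩
  · simpa using ht
  · exact closure_eq_top hA hc hg _ (Subgroup.subset_closure (by simp))
      (fun b hb => Subgroup.subset_closure (by simp at hb; simp [hb]))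

include hA in
theorem exists_gen_two (hc : checkAll M A cert = true) (a b : Fin n)
    (hab : fixesAll n A [a.val, b.val] = false) {gc : List (List ℕ)}
    (hg : checkGen n A [a, b] gc = true) :
    ∃ T : Finset M.Group, T.card = 2 ∧
      (∀ t ∈ T, ∃ (g : M.Group) (i : Fin n), t = g * M.simple i * g⁻¹) ∧
      Subgroup.closure (({((List.finRange n).map M.simple).prod} : Set M.Group) ∪ ↑T) = ⊤ := by
  classical
  have hne : M.simple a ≠ M.simple b := by
    intro h
    have h1 : ([a, b].map M.simple).prod = 1 := by
      simp only [List.map_cons, List.map_nil, List.prod_cons, List.prod_nil, mul_one, h]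
      rw [← M.toCoxeterSystem_simple]
      exact M.toCoxeterSystem.simple_mul_simple_self b
    rw [prod_simple_eq_one_iff hA hc] at h1
    simp [hab] at h1
  refine ⟨{M.simple a, M.simple b}, Finset.card_pair hne, fun t ht => ?_, ?_⟩
  · simp only [Finset.mem_insert, Finset.mem_singleton] at ht
    rcases ht with rfl | rfl
    · exact ⟨1, a, by simp⟩
    · exact ⟨1, b, by simp⟩
  · refine closure_eq_top hA hc hg _ (Subgroup.subset_closure (by simp))
      (fun c hcm => Subgroup.subset_closure ?_)
    simp only [List.mem_cons, List.not_mem_nil, or_false] at hcm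
    rcases hcm with rfl | rfl <;> simp

end Cfsg.Agent.WeylGroup
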